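import Cfsg.Agent.Known.OrthFusion.Rotation
import Cfsg.Agent.Known.QuadSemisimple
import Cfsg.Agent.Known.OrthSim.Plus
import Cfsg.Agent.Known.OrthSim.Minus
import Cfsg.Agent.Classical.Symp.Decomp

/-!
Fusion of semisimple elements of odd prime order in the groups between `PΩ(Q)` and `PGO(Q)`, even dimension.
-/

set_option autoImplicit false
set_option linter.unusedSectionVars false
set_option linter.style.haveILetI false

namespace Cfsg.Lib.OrthFusion

open Matrix Cfsg.Lib.Classical Cfsg.Lib.Classical.Refl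
open Cfsg.Lib.OrthSim (GO gm conjPO toGO scal NN mu conjIso Setup)

universe u

section Symplectic

variable {F : Type u} [Field F] {V : Type u} [AddCommGroup V] [Module F V] [FiniteDimensional F V]

/-- The determinant of a similitude of a nondegenerate alternating form. -/
theorem det_alt_similitude {ω : LinearMap.BilinForm F V} (hA : ω.IsAlt) (hnd : ω.Nondegenerate)
    (a : Module.End F V) {c : Fˣ} (hc : ∀ u v, ω (a u) (a v) = (c : F) * ω u v) {k : ℕ}
    (hk : Module.finrank F V = 2 * k) : LinearMap.det a = (c : F) ^ k := by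
  classical
  obtain ⟨m, b, hm, h1, h2, h3⟩ := exists_symplectic_basis_nondegenerate hA hnd
  obtain rfl : m = k := by omega
  have hG : LinearMap.BilinForm.toMatrix b ω = -Matrix.J (Fin m) F := by
    ext i j
    rw [LinearMap.BilinForm.toMatrix_apply]
    rcases i with i | i <;> rcases j with j | j
    · simp [Matrix.J, h2]
    · simp [Matrix.J, h1, Matrix.one_apply]
    · rw [← LinearMap.IsAlt.neg hA]
      simp [Matrix.J, h1, Matrix.one_apply, eq_comm]
    · simp [Matrix.J, h3]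
  set A := LinearMap.toMatrix b b a
  have hAJ : Aᵀ * Matrix.J (Fin m) F * A = (c : F) • Matrix.J (Fin m) F := by
    have e : LinearMap.BilinForm.comp ω a a = (c : F) • ω :=
      LinearMap.ext fun u => LinearMap.ext fun v => hc u v
    have h := congrArg (LinearMap.BilinForm.toMatrix b) e
    rw [LinearMap.BilinForm.toMatrix_comp b b, map_smul, hG, Matrix.mul_neg, Matrix.neg_mul, smul_neg, neg_inj] at h
    exact h
  set D' : Matrix (Fin m ⊕ Fin m) (Fin m ⊕ Fin m) F := diagonal (Sum.elim (fun _ => ((c⁻¹ : Fˣ) : F)) 1)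
  have hDJ : D' * ((c : F) • Matrix.J (Fin m) F) * D' = Matrix.J (Fin m) F := by
    ext i j
    rw [Matrix.mul_diagonal, Matrix.diagonal_mul, Matrix.smul_apply]
    rcases i with i | i <;> rcases j with j | j <;>
      simp [Matrix.J, Matrix.one_apply]
  have hM : A * D' ∈ Matrix.symplecticGroup (Fin m) F := by
    rw [SymplecticGroup.mem_iff', transpose_mul, diagonal_transpose]
    calc D' * Aᵀ * Matrix.J (Fin m) F * (A * D') = D' * (Aᵀ * Matrix.J (Fin m) F * A) * D' := by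
          simp only [Matrix.mul_assoc]
      _ = _ := by rw [hAJ, hDJ]
  have h := SymplecticGroup.det_eq_one hM
  rw [det_mul, LinearMap.det_toMatrix, det_diagonal, Fintype.prod_sum_type] at h
  simp only [Sum.elim_inl, Sum.elim_inr, Pi.one_apply, Finset.prod_const_one, mul_one, Finset.prod_const,
    Finset.card_univ, Fintype.card_fin, Units.val_inv_eq_inv_val, inv_pow] at h
  exact eq_of_mul_inv_eq_one h

end Symplectic

variable {F : Type u} [Field F] [Fintype F] [DecidableEq F] {ι : Type} [Fintype ι] [DecidableEq ι]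
  {Q : QuadraticForm F (ι → F)} {k : ℕ} (S : Setup Q k)

include S

theorem exists_commuting {s : Cfsg.isometryGroup F (⇑Q)} {r : ℕ} (hr : Odd r) (hrF : (r : F) ≠ 0) (hsr : s ^ r = 1)
    (hs : s ≠ 1) :
    (∃ z : Cfsg.isometryGroup F (⇑Q), detHom Q z = 1 ∧ spin Q z = -1 ∧ Commute (toGO Q z) (toGO Q s)) ∧
      ∃ g : GO Q, S.e g = 1 ∧ S.t g = -1 ∧ Commute g (toGO Q s) := by
  classical
  have hn2 : 2 ≤ Fintype.card ι := by have := S.hn; omega
  obtain ⟨z, hz1, hz2, hz3⟩ := exists_spin_neg_commute Q S.h2 S.hQ hn2 hr hrF hsr hs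
  refine ⟨⟨z, hz1, hz2, hz3.map (toGO Q)⟩, ?_⟩
  set s' := conjIso Q S.D s
  let T : (ι → F) ≃ₗ[F] (ι → F) := LinearEquiv.ofBijective (Matrix.toLin' (gm Q S.D))
    (by
      have : ∀ v, Matrix.toLin' (gm Q S.D⁻¹) (Matrix.toLin' (gm Q S.D) v) = v := fun v => by
        rw [Matrix.toLin'_apply, Matrix.toLin'_apply, mulVec_mulVec, ← OrthSim.gm_mul, inv_mul_cancel]
        exact one_mulVec v
      have hi : Function.Injective (Matrix.toLin' (gm Q S.D)) := fun u v e => by rw [← this u, e, this]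
      exact ⟨hi, LinearMap.surjective_of_injective hi⟩)
  have hT : ∀ v, T v = gm Q S.D *ᵥ v := fun v => Matrix.toLin'_apply _ _
  obtain ⟨g, hgQ, hg⟩ := QuadSemisimple.exists_conj Q S.hQ (endo Q s) (endo Q s')
    (fun v => by rw [endo_apply]; exact (mem_iff Q).1 s.2 v)
    (fun v => by rw [endo_apply]; exact (mem_iff Q).1 s'.2 v) hrF hr (by rw [← endo_pow, hsr, endo_one]) T
    fun v => by
      rw [hT, hT, endo_apply, endo_apply]
      show _ = (gm Q S.D * mat Q s * gm Q S.D⁻¹) *ᵥ (gm Q S.D *ᵥ v)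
      rw [mulVec_mulVec, mulVec_mulVec, mul_assoc, ← OrthSim.gm_mul Q S.D⁻¹, inv_mul_cancel]
      simp [gm]
  have hdet : (LinearMap.toMatrix' g.toLinearMap).det ≠ 0 := by
    rw [LinearMap.det_toMatrix']; exact (LinearEquiv.isUnit_det' g).ne_zero
  let gi : Cfsg.isometryGroup F (⇑Q) := ⟨Matrix.GeneralLinearGroup.mkOfDetNeZero _ hdet, (mem_iff Q).2 fun v => by
    show Q (LinearMap.toMatrix' g.toLinearMap *ᵥ v) = Q v
    rw [LinearMap.toMatrix'_mulVec]; exact hgQ v⟩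
  have hgi : gi * s = s' * gi := ext_mulVec Q fun v => by
    rw [mat, mulVec_mul, mat, mulVec_mul]
    show LinearMap.toMatrix' g.toLinearMap *ᵥ (mat Q s *ᵥ v) = mat Q s' *ᵥ (LinearMap.toMatrix' g.toLinearMap *ᵥ v)
    rw [LinearMap.toMatrix'_mulVec, LinearMap.toMatrix'_mulVec, ← endo_apply, ← endo_apply]
    exact hg v
  set c₀ := (toGO Q gi)⁻¹ * S.D
  have hcomm : Commute c₀ (toGO Q s) := by
    show (toGO Q gi)⁻¹ * S.D * toGO Q s = toGO Q s * ((toGO Q gi)⁻¹ * S.D)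
    have h1 := congrArg (toGO Q) hgi
    rw [map_mul, map_mul, OrthSim.toGO_conjIso] at h1
    have h2 : toGO Q s = (toGO Q gi)⁻¹ * (S.D * toGO Q s * S.D⁻¹ * toGO Q gi) := by rw [← h1]; group
    conv_rhs => rw [h2]
    group
  have ht : S.t c₀ = -1 := by
    refine (S.t_pm c₀).resolve_left fun h => S.hDns ?_
    obtain ⟨d, hd⟩ := (S.t_eq_one_iff _).1 h
    refine ⟨d, ?_⟩
    rw [OrthSim.mu_mul Q S.hQ S.hn, ← map_inv, OrthSim.mu_toGO Q S.hQ S.hn, one_mul] at hd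
    exact hd
  have hcases : S.e c₀ = 1 ∨ S.e c₀ = -1 := OrthSim.eps_pm Q S.hQ S.hn S.hk c₀
  rcases hcases with he | he
  · exact ⟨c₀, he, ht, hcomm⟩
  set a := endo Q s
  by_cases hfix : ∃ v, Q v ≠ 0 ∧ mat Q s *ᵥ v = v
  · obtain ⟨v, hv, hsv⟩ := hfix
    have hR : Commute (refl Q v hv) s := by
      have h := refl_conj Q s v hv
      have e : refl Q (mat Q s *ᵥ v) (by rw [(mem_iff Q).mp s.2]; exact hv) = refl Q v hv :=
        refl_congr Q hv _ (t := 1) (by rw [hsv, one_smul])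
      rw [e, mul_inv_eq_iff_eq_mul] at h
      exact h.symm
    refine ⟨toGO Q (refl Q v hv) * c₀, ?_, ?_, (hR.map (toGO Q)).mul_left hcomm⟩
    · rw [map_mul, he, OrthSim.eps_toGO Q S.hQ S.hn S.hk, detHom_refl, neg_mul_neg, one_mul]
    · rw [map_mul, ht, (S.t_eq_one_iff _).2 (by rw [OrthSim.mu_toGO Q S.hQ S.hn]; exact IsSquare.one), one_mul]
  -- no fixed vectors: every commuting similitude preserves the classes
  exfalso
  push Not at hfix
  have hsfix : ∀ v, mat Q s *ᵥ v = v → v = 0 := by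
    intro v hv
    have cc := FormSemisimple.isCompl_eigen a (1 : F) hrF (by rw [← endo_pow, hsr, endo_one])
    have hab : ∀ x y, QuadraticMap.polarBilin Q (a x) (a y) = QuadraticMap.polarBilin Q x y := fun x y => by
      rw [endo_apply, endo_apply]; exact polar_act Q s x y
    have hmem : ∀ u : ι → F, mat Q s *ᵥ u = u ↔ u ∈ LinearMap.ker (a - (1 : F) • 1) := fun u => by
      rw [LinearMap.mem_ker, LinearMap.sub_apply, LinearMap.smul_apply, Module.End.one_apply, one_smul, sub_eq_zero,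
        endo_apply]
    refine S.hQ.1 v fun y => ?_
    obtain ⟨y₁, hy₁, y₂, hy₂, rfl⟩ := Submodule.mem_sup.1
      (show y ∈ LinearMap.ker (a - (1 : F) • 1) ⊔ LinearMap.range (a - (1 : F) • 1) by
        rw [cc.sup_eq_top]; exact Submodule.mem_top)
    rw [map_add, (FormSemisimple.eigen_orth _ a hab 1 (one_mul 1) ((hmem v).1 hv) hy₂).1, add_zero]
    have h0 : ∀ u, mat Q s *ᵥ u = u → Q u = 0 := fun u hu => by_contra fun h => hfix u h hu
    rw [QuadraticMap.polarBilin_apply_apply, QuadraticMap.polar, h0 v hv, h0 y₁ ((hmem y₁).2 hy₁),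
      h0 _ (by rw [mulVec_add, hv, (hmem y₁).2 hy₁])]
    ring
  set ai := endo Q s⁻¹
  have haB : ∀ (t : Cfsg.isometryGroup F (⇑Q)) u v,
      QuadraticMap.polarBilin Q (endo Q t u) v = QuadraticMap.polarBilin Q u (endo Q t⁻¹ v) := fun t u v => by
    conv_rhs => rw [QuadraticMap.polarBilin_apply_apply, ← polar_act Q t]
    rw [QuadraticMap.polarBilin_apply_apply, endo_apply, endo_apply, ← mulVec_mul, mul_inv_cancel]
    simp
  let ω : LinearMap.BilinForm F (ι → F) := (QuadraticMap.polarBilin Q).comp (a - ai)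
  have hA : ω.IsAlt := fun u => by
    show QuadraticMap.polarBilin Q (a u - ai u) u = 0
    rw [map_sub, LinearMap.sub_apply, haB, sub_eq_zero]
    exact QuadraticMap.polar_comm _ _ _
  have hinj : ∀ u, a u - ai u = 0 → u = 0 := fun u hu => by
    have h1 : mat Q (s ^ 2) *ᵥ u = u := by
      have h2 := congrArg a (sub_eq_zero.1 hu)
      rw [← Module.End.mul_apply, ← Module.End.mul_apply, ← endo_mul, ← endo_mul, mul_inv_cancel, endo_one,
        Module.End.one_apply, endo_apply] at h2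
      rwa [pow_two]
    have h3 : ∀ n : ℕ, mat Q ((s ^ 2) ^ n) *ᵥ u = u := fun n => by
      induction n with
      | zero => simp [mat]
      | succ n ih => rw [pow_succ, mat, mulVec_mul]; change mat Q _ *ᵥ (mat Q _ *ᵥ u) = u; rw [h1, ih]
    obtain ⟨j, hj⟩ := hr
    refine hsfix u ?_
    have := h3 (j + 1)
    rwa [← pow_mul, show 2 * (j + 1) = r + 1 by omega, pow_succ, hsr, one_mul] at this
  have hnd : ω.Nondegenerate := by
    refine LinearMap.IsRefl.nondegenerate_iff_separatingLeft hA.isRefl |>.2 fun u hu => hinj u ?_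
    exact S.hQ.1 _ hu
  have hcz : Commute c₀ (toGO Q s⁻¹) := by rw [map_inv]; exact hcomm.inv_right
  have hd := det_alt_similitude hA hnd (Matrix.toLin' (gm Q c₀)) (c := mu Q c₀) (k := k) (fun u v => by
    show QuadraticMap.polarBilin Q (a _ - ai _) _ = _ * QuadraticMap.polarBilin Q (a u - ai u) v
    have e : ∀ t : Cfsg.isometryGroup F (⇑Q), Commute c₀ (toGO Q t) → ∀ x,
        endo Q t (gm Q c₀ *ᵥ x) = gm Q c₀ *ᵥ endo Q t x := fun t h x => by
      rw [endo_apply, endo_apply, mulVec_mulVec, mulVec_mulVec, ← OrthSim.gm_toGO Q t, ← OrthSim.gm_mul,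
        ← OrthSim.gm_mul, h.eq]
    have hu : Matrix.toLin' (gm Q c₀) u = gm Q c₀ *ᵥ u := Matrix.toLin'_apply _ _
    have hv : Matrix.toLin' (gm Q c₀) v = gm Q c₀ *ᵥ v := Matrix.toLin'_apply _ _
    rw [hu, hv, e s hcomm, e _ hcz, ← mulVec_sub,
      QuadraticMap.polarBilin_apply_apply, QuadraticMap.polarBilin_apply_apply]
    simp only [QuadraticMap.polar, ← mulVec_add, OrthSim.mu_spec]
    ring) (by rw [Module.finrank_fintype_fun_eq_card]; exact S.hk)
  rw [LinearMap.det_toLin'] at hd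
  refine S.neg_ne (he.symm.trans (Units.ext ?_))
  rw [OrthSim.coe_eps, hd, div_self (pow_ne_zero _ (Units.ne_zero _)), Units.val_one]

omit S in
/-- Conjugacy does not shrink. -/
theorem conjUnder_iff {X : Type*} [Group X] {H K : Subgroup X} {x : X} (hle : H ≤ K)
    (h : ∀ g ∈ K, ∃ c, c * x * c⁻¹ = x ∧ g * c ∈ H) (y : X) :
    Cfsg.IsConjUnder H x y ↔ Cfsg.IsConjUnder K x y := by
  refine ⟨fun ⟨g, hg, e⟩ => ⟨g, hle hg, e⟩, ?_⟩
  rintro ⟨g, hg, rfl⟩
  obtain ⟨c, hc, hgc⟩ := h g hg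
  refine ⟨g * c, hgc, ?_⟩
  conv_lhs => rw [← hc]
  group

/-- Fusion of semisimple elements of odd order. -/
theorem fusion {x : MulAut (Cfsg.POmega F (⇑Q))} (hx : x ∈ Cfsg.pgoAut F (⇑Q)) {r : ℕ} (hr : Odd r)
    (hrF : (r : F) ≠ 0) (hxr : x ^ r = 1) (hx1 : x ≠ 1) :
    (∀ y, (Cfsg.IsConjUnder (Cfsg.Inn (Cfsg.POmega F (⇑Q))) x y ↔ Cfsg.IsConjUnder (S.M.map (conjPO Q)) x y) ∧
      (Cfsg.IsConjUnder (Cfsg.psoAut F (⇑Q)) x y ↔ Cfsg.IsConjUnder (S.M.map (conjPO Q)) x y)) ∧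
    ∀ y, Cfsg.IsConjUnder (Cfsg.poAut F (⇑Q)) x y ↔ Cfsg.IsConjUnder (Cfsg.pgoAut F (⇑Q)) x y := by
  classical
  rw [OrthSim.pgoAut_eq] at hx
  obtain ⟨g, -, rfl⟩ := hx
  -- an isometry inducing `x`
  obtain ⟨j, hj⟩ := id hr
  obtain ⟨c, hc⟩ : g ^ r ∈ (scal Q).range := by
    rw [← OrthSim.conjPO_ker Q S.hQ S.hn, MonoidHom.mem_ker, map_pow, hxr]
  obtain ⟨s, hsx, hsr⟩ : ∃ s, conjPO Q (toGO Q s) = conjPO Q g ∧ s ^ r = 1 := by
    have hμ : mu Q g ^ r = c * c := by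
      have := congrArg (OrthSim.muHom Q S.hQ S.hn) hc
      rw [map_pow] at this
      exact this.symm.trans (OrthSim.mu_scal Q S.hQ S.hn c)
    set l := c / mu Q g ^ j
    have hl : mu Q g = l * l := by
      rw [div_mul_div_comm, eq_div_iff_mul_eq', ← hμ, hj, ← pow_add, ← pow_succ']
      congr 1; omega
    obtain ⟨t, ht⟩ := OrthSim.exists_iso_of_mu Q S.hQ S.hn (g := scal Q l⁻¹ * g) (by
      rw [OrthSim.mu_mul Q S.hQ S.hn, OrthSim.mu_scal Q S.hQ S.hn, hl, ← mul_inv, inv_mul_cancel])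
    have htx : conjPO Q (toGO Q t) = conjPO Q g := by
      rw [← ht, map_mul, OrthSim.conjPO_scal, one_mul]
    obtain ⟨e, he⟩ : toGO Q (t ^ r) ∈ (scal Q).range := by
      rw [← OrthSim.conjPO_ker Q S.hQ S.hn, MonoidHom.mem_ker, map_pow, map_pow, htx, hxr]
    have he2 : e * e = 1 := by
      rw [← OrthSim.mu_scal Q S.hQ S.hn, he, OrthSim.mu_toGO Q S.hQ S.hn]
    obtain ⟨n, hn⟩ := OrthSim.exists_iso_of_mu Q S.hQ S.hn (g := scal Q e) (by
      rw [OrthSim.mu_scal Q S.hQ S.hn, he2])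
    refine ⟨t * n, ?_, OrthSim.toGO_injective Q ?_⟩
    · rw [map_mul, map_mul, ← hn, OrthSim.conjPO_scal, mul_one, htx]
    · have hcm : Commute (toGO Q t) (toGO Q n) := by rw [← hn]; exact (OrthSim.scal_comm Q e _).symm
      rw [map_pow, map_mul, hcm.mul_pow, ← map_pow, ← he, ← hn, ← map_pow, ← map_mul, map_one,
        ← map_one (scal Q)]
      congr 1
      rw [hj, pow_succ, pow_mul, pow_two, he2, one_pow, one_mul, he2]
  have hs1 : s ≠ 1 := fun h => hx1 (by rw [← hsx, h, map_one, map_one])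
  rw [← hsx]
  obtain ⟨⟨z, hz1, hz2, hz3⟩, g₀, hg₀e, hg₀t, hg₀c⟩ := exists_commuting S hr hrF hsr hs1
  have fixes : ∀ c : GO Q, Commute c (toGO Q s) →
      conjPO Q c * conjPO Q (toGO Q s) * (conjPO Q c)⁻¹ = conjPO Q (toGO Q s) := fun c h => by
    rw [← map_inv, ← map_mul, ← map_mul, h.eq, mul_inv_cancel_right]
  have hzK : toGO Q z ∈ S.K := (OrthSim.mem_KK Q S.hQ S.hn S.hk S.h2).2 ⟨1, z, hz1, by rw [map_one, one_mul]⟩
  haveI := OrthSim.nn_normal Q
  have hK : ∀ g ∈ S.K, ∃ c, Commute c (toGO Q s) ∧ g * c ∈ NN Q := by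
    intro g hg
    by_cases hgN : g ∈ NN Q
    · exact ⟨1, Commute.one_left _, by rwa [mul_one]⟩
    · have hneg : Setup.NegMem Q := by
        by_contra h
        exact hgN (S.K_eq_NN h ▸ hg)
      exact ⟨_, hz3, S.mul_mem_of_out hg hzK hgN (S.not_mem_of_spin hneg hz2)⟩
  have hKM : ∀ g ∈ S.M, ∃ c, Commute c (toGO Q s) ∧ g * c ∈ S.K := by
    intro g hg
    rcases S.t_pm g with h | h
    · exact ⟨1, Commute.one_left _, by rw [mul_one]; exact S.mem_K.2 ⟨hg, h⟩⟩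
    · exact ⟨g₀, hg₀c, S.mem_K.2 ⟨by rw [map_mul, MonoidHom.mem_ker.1 hg, hg₀e, one_mul],
        by rw [map_mul, h, hg₀t, neg_mul_neg, one_mul]⟩⟩
  have hKle : S.K ≤ S.M := fun g hg => MonoidHom.mem_ker.2 (S.mem_K.1 hg).1
  refine ⟨fun y => ⟨?_, ?_⟩, fun y => ?_⟩
  · rw [Setup.inn_eq']
    refine conjUnder_iff (Subgroup.map_mono (S.nn_le.trans hKle)) ?_ y
    rintro _ ⟨g, hg, rfl⟩
    obtain ⟨c₁, h1, h1'⟩ := hKM g hg
    obtain ⟨c₂, h2, h2'⟩ := hK _ h1'
    exact ⟨conjPO Q (c₁ * c₂), fixes _ (h1.mul_left h2), ⟨_, h2', by rw [mul_assoc, map_mul]⟩⟩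
  · rw [S.psoAut_eq']
    refine conjUnder_iff (Subgroup.map_mono hKle) ?_ y
    rintro _ ⟨g, hg, rfl⟩
    obtain ⟨c₁, h1, h1'⟩ := hKM g hg
    exact ⟨conjPO Q c₁, fixes _ h1, ⟨_, h1', by rw [map_mul]⟩⟩
  · have hpo : Cfsg.poAut F (⇑Q) = (toGO Q).range.map (conjPO Q) := by
      refine OrthSim.closure_eq_map Q _ _ fun β => ⟨?_, ?_⟩
      · rintro ⟨g, hg, h⟩
        exact ⟨_, ⟨⟨g, hg⟩, rfl⟩, (OrthSim.induced_iff Q (toGO Q ⟨g, hg⟩) β).1 h⟩
      · rintro ⟨_, ⟨t, rfl⟩, h⟩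
        exact ⟨t.1, t.2, (OrthSim.induced_iff Q _ β).2 h⟩
    rw [hpo, OrthSim.pgoAut_eq]
    refine conjUnder_iff (Subgroup.map_mono le_top) ?_ y
    rintro _ ⟨g, -, rfl⟩
    obtain ⟨c₁, h1, h1'⟩ : ∃ c, Commute c (toGO Q s) ∧ IsSquare (mu Q (g * c)) := by
      rcases S.t_pm g with h | h
      · exact ⟨1, Commute.one_left _, by rw [mul_one]; exact (S.t_eq_one_iff g).1 h⟩
      · exact ⟨g₀, hg₀c, (S.t_eq_one_iff _).1 (by rw [map_mul, h, hg₀t, neg_mul_neg, one_mul])⟩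
    obtain ⟨l, hl⟩ := h1'
    obtain ⟨t, ht⟩ := OrthSim.exists_iso_of_mu Q S.hQ S.hn (g := scal Q l⁻¹ * (g * c₁)) (by
      rw [OrthSim.mu_mul Q S.hQ S.hn, OrthSim.mu_scal Q S.hQ S.hn, hl, ← mul_inv, inv_mul_cancel])
    exact ⟨conjPO Q c₁, fixes _ h1, ⟨toGO Q t, ⟨t, rfl⟩, by rw [← ht, map_mul, OrthSim.conjPO_scal, one_mul, map_mul]⟩⟩

end Cfsg.Lib.OrthFusion
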