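import Cfsg.Agent.Known.OrthFusion.Spin

/-!
Isometries of odd order commute with a rotation of nontrivial spinor norm.
-/

set_option autoImplicit false
set_option linter.unusedSectionVars false
set_option linter.style.haveILetI false

namespace Cfsg.Lib.OrthFusion

open Matrix Polynomial Cfsg.Lib.Classical.Refl

universe u

variable {F : Type u} [Field F] [Fintype F] [DecidableEq F] {ι : Type} [Fintype ι] [DecidableEq ι]
  (Q : QuadraticForm F (ι → F))

/-- The underlying endomorphism. -/
noncomputable abbrev endo (s : Cfsg.isometryGroup F (⇑Q)) : Module.End F (ι → F) := Matrix.toLin' (mat Q s)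

theorem endo_apply (s : Cfsg.isometryGroup F (⇑Q)) (v : ι → F) : endo Q s v = mat Q s *ᵥ v := Matrix.toLin'_apply _ _

theorem endo_mul (s t : Cfsg.isometryGroup F (⇑Q)) : endo Q (s * t) = endo Q s * endo Q t :=
  LinearMap.ext fun v => by
    rw [Module.End.mul_apply, endo_apply, endo_apply, endo_apply, mat, mulVec_mul]

theorem endo_one : endo Q 1 = 1 := LinearMap.ext fun v => by rw [endo_apply]; simp [mat]

theorem endo_pow (s : Cfsg.isometryGroup F (⇑Q)) : ∀ n : ℕ, endo Q (s ^ n) = endo Q s ^ n
  | 0 => endo_one Q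
  | n + 1 => by rw [pow_succ, endo_mul, endo_pow s n, pow_succ]

theorem endo_injective {s t : Cfsg.isometryGroup F (⇑Q)} (h : endo Q s = endo Q t) : s = t :=
  ext_mulVec Q fun x => by rw [← endo_apply, ← endo_apply, h]

/-- A self-adjoint map stays self-adjoint under polynomials. -/
theorem aeval_selfadjoint (h : Module.End F (ι → F))
    (hh : ∀ u v, QuadraticMap.polarBilin Q (h u) v = QuadraticMap.polarBilin Q u (h v)) (P : F[X]) (u v : ι → F) :
    QuadraticMap.polarBilin Q (aeval h P u) v = QuadraticMap.polarBilin Q u (aeval h P v) := by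
  induction P using Polynomial.induction_on' with
  | add P R hP hR => rw [map_add, LinearMap.add_apply, LinearMap.add_apply, map_add, LinearMap.add_apply, hP, hR, map_add]
  | monomial n c =>
    have hn : ∀ (k : ℕ) u v, QuadraticMap.polarBilin Q ((h ^ k) u) v =
        QuadraticMap.polarBilin Q u ((h ^ k) v) := fun k => by
      induction k with
      | zero => exact fun u v => rfl
      | succ k ih =>
        intro u v
        conv_lhs => rw [pow_succ', Module.End.mul_apply, hh, ih]
        rw [pow_succ, Module.End.mul_apply]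
    rw [aeval_monomial, ← Algebra.smul_def, LinearMap.smul_apply, LinearMap.smul_apply, map_smul,
      LinearMap.smul_apply, hn, map_smul]

theorem exists_spin_neg_commute (h2 : (2 : F) ≠ 0) (hQ : (QuadraticMap.polarBilin Q).Nondegenerate)
    (hn : 2 ≤ Fintype.card ι) {s : Cfsg.isometryGroup F (⇑Q)} {r : ℕ} (hr : Odd r) (hrF : (r : F) ≠ 0)
    (hsr : s ^ r = 1) (hs : s ≠ 1) :
    ∃ z : Cfsg.isometryGroup F (⇑Q), detHom Q z = 1 ∧ spin Q z = -1 ∧ Commute z s := by
  classical
  set B := QuadraticMap.polarBilin Q with hBdef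
  have hsymm : ∀ u v, B u v = B v u := fun u v => QuadraticMap.polar_comm (⇑Q) u v
  set a := endo Q s with ha
  set ai := endo Q s⁻¹ with hai
  have haai : a * ai = 1 := by rw [ha, hai, ← endo_mul, mul_inv_cancel, endo_one]
  have haia : ai * a = 1 := by rw [ha, hai, ← endo_mul, inv_mul_cancel, endo_one]
  have har : a ^ r = 1 := by rw [ha, ← endo_pow, hsr, endo_one]
  have haB : ∀ (t : Cfsg.isometryGroup F (⇑Q)) u v, B (endo Q t u) v = B u (endo Q t⁻¹ v) := fun t u v => by
    conv_rhs => rw [hBdef, QuadraticMap.polarBilin_apply_apply, ← polar_act Q t]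
    rw [hBdef, QuadraticMap.polarBilin_apply_apply, endo_apply, endo_apply, ← mulVec_mul, mul_inv_cancel]
    simp
  set h := a + ai with hh
  set w := a - ai with hw
  have hhs : ∀ u v, B (h u) v = B u (h v) := fun u v => by
    rw [hh, LinearMap.add_apply, LinearMap.add_apply, map_add, map_add, LinearMap.add_apply, ha, hai, haB, haB,
      inv_inv, add_comm]
  have hws : ∀ u v, B (w u) v = -B u (w v) := fun u v => by
    rw [hw, LinearMap.sub_apply, LinearMap.sub_apply, map_sub, map_sub, LinearMap.sub_apply, ha, hai, haB, haB,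
      inv_inv, neg_sub]
  have hhw : Commute h w := by
    show (a + ai) * (a - ai) = (a - ai) * (a + ai)
    rw [add_mul, mul_sub, mul_sub, sub_mul, mul_add, mul_add, haai, haia]; abel
  have hww : w * w = h * h - (4 : F) • 1 := by
    rw [hh, hw, sub_mul, mul_sub, mul_sub, add_mul, mul_add, mul_add, haai, haia]
    module
  -- the factor
  have hsemi : h.IsSemisimple := by
    have h1 : Commute a ai := haai.trans haia.symm
    refine Module.End.IsSemisimple.add_of_commute h1 (Classical.PrimeOrd.semisimple hrF one_ne_zero (by rw [har, one_smul]))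
      (Classical.PrimeOrd.semisimple hrF one_ne_zero (?_ : ai ^ r = (1 : F) • 1))
    rw [hai, ← endo_pow, inv_pow, hsr, inv_one, endo_one, one_smul]
  set μ := minpoly F h
  have hμm : μ.Monic := minpoly.monic (Algebra.IsIntegral.isIntegral h)
  have hsq : Squarefree μ := hsemi.minpoly_squarefree
  have hne2 : h ≠ (2 : F) • 1 := by
    intro h2'
    have hN : (a - 1) * (a - 1) = 0 := by
      have : a * h = a * ((2 : F) • 1) := by rw [h2']
      rw [hh, mul_add, haai, mul_smul_comm, mul_one] at this
      calc (a - 1) * (a - 1) = a * a + 1 - (2 : F) • a := by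
            rw [sub_mul, mul_sub, mul_one, one_mul, two_smul]; abel
        _ = 0 := by rw [this, sub_self]
    have hpow : ∀ k : ℕ, a ^ k = 1 + (k : F) • (a - 1) := fun k => by
      induction k with
      | zero => simp
      | succ k ih =>
        have e : a = 1 + (a - 1) := by abel
        rw [pow_succ, ih]
        nth_rewrite 2 [e]
        rw [mul_add, mul_one, add_mul, one_mul, smul_mul_assoc, hN, smul_zero, add_zero, Nat.cast_succ, add_smul,
          one_smul]
        abel
    have h0 := hpow r
    rw [har, left_eq_add, smul_eq_zero] at h0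
    refine hs (endo_injective Q ?_)
    rw [endo_one, ← ha]
    exact sub_eq_zero.1 (h0.resolve_left hrF)
  obtain ⟨g, hgi, hgm, hgμ, hg2⟩ : ∃ g : F[X], Irreducible g ∧ g.Monic ∧ g ∣ μ ∧ ¬ g ∣ X - C 2 := by
    by_contra hcon
    push Not at hcon
    have hall : ∀ f ∈ UniqueFactorizationMonoid.normalizedFactors μ, f ∣ X - C (2 : F) := fun f hf => by
      have hfi := UniqueFactorizationMonoid.irreducible_of_normalized_factor f hf
      exact hcon f hfi (by rw [← UniqueFactorizationMonoid.normalize_normalized_factor f hf]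
                           exact Polynomial.monic_normalize hfi.ne_zero)
        (UniqueFactorizationMonoid.dvd_of_mem_normalizedFactors hf)
    have hpow : ∀ M : Multiset F[X], (∀ f ∈ M, f ∣ X - C (2 : F)) → M.prod ∣ (X - C (2 : F)) ^ Multiset.card M := by
      intro M
      induction M using Multiset.induction with
      | empty => simp
      | cons f M ih =>
        intro hM
        rw [Multiset.prod_cons, Multiset.card_cons, pow_succ']
        exact mul_dvd_mul (hM f (Multiset.mem_cons_self _ _)) (ih fun e he => hM e (Multiset.mem_cons_of_mem he))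
    have h1 := (UniqueFactorizationMonoid.prod_normalizedFactors hμm.ne_zero).symm.dvd.trans (hpow _ hall)
    obtain ⟨R, hR⟩ := hsq.isRadical _ _ h1
    apply hne2
    have h3 := congrArg (aeval h) hR
    rw [map_mul, minpoly.aeval, zero_mul, map_sub, aeval_X, aeval_C, Algebra.algebraMap_eq_smul_one, sub_eq_zero] at h3
    exact h3
  obtain ⟨g', hg'⟩ := hgμ
  have hgg' : IsCoprime g g' := hgi.coprime_iff_not_dvd.2 fun ⟨e, he⟩ =>
    hgi.not_isUnit (hsq g ⟨e, by rw [hg', he, mul_assoc]⟩)
  obtain ⟨x, y, hxy⟩ := hgg'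
  have hμ0 : aeval h g * aeval h g' = 0 := by rw [← map_mul, ← hg']; exact minpoly.aeval F h
  have hproj : ∀ u, aeval h g (aeval h (y * g') u) = 0 := fun u => by
    rw [← Module.End.mul_apply, ← map_mul, show g * (y * g') = y * μ by rw [hg']; ring, map_mul, minpoly.aeval,
      mul_zero, LinearMap.zero_apply]
  have hkey : ∀ u, aeval h g u = 0 → aeval h (y * g') u = u := fun u hu => by
    conv_rhs => rw [← Module.End.one_apply (R := F) u, ← map_one (aeval (R := F) h), ← hxy]
    rw [map_add, LinearMap.add_apply, map_mul (aeval h) x, Module.End.mul_apply, hu, map_zero, zero_add]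
  obtain ⟨v, hv, hQv⟩ : ∃ v, aeval h g v = 0 ∧ Q v ≠ 0 := by
    by_contra hcon
    push Not at hcon
    have hB0 : ∀ u v, aeval h g u = 0 → aeval h g v = 0 → B u v = 0 := fun u v hu hv => by
      rw [hBdef, QuadraticMap.polarBilin_apply_apply, QuadraticMap.polar, hcon u hu, hcon v hv,
        hcon (u + v) (by rw [map_add, hu, hv, add_zero])]
      ring
    have hker : ∀ u, aeval h g u = 0 → u = 0 := fun u hu => hQ.1 u fun z => by
      rw [← hkey u hu, aeval_selfadjoint Q h hhs]
      exact hB0 u _ hu (hproj z)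
    have : aeval h g' = 0 := LinearMap.ext fun u => hker _ (by
      rw [← Module.End.mul_apply, hμ0, LinearMap.zero_apply])
    have hdeg := Polynomial.natDegree_le_of_dvd (minpoly.dvd F h this) (fun e => hμm.ne_zero (by rw [hg', e, mul_zero]))
    rw [show minpoly F h = g * g' from hg', Polynomial.natDegree_mul hgi.ne_zero
      (fun e => hμm.ne_zero (by rw [hg', e, mul_zero]))] at hdeg
    have := hgi.natDegree_pos
    omega
  -- the field
  haveI := Fact.mk hgi
  let K := AdjoinRoot g
  haveI : FiniteDimensional F K := (AdjoinRoot.powerBasis hgi.ne_zero).finite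
  set θ : K := AdjoinRoot.root g
  let f : K →ₗ[F] (ι → F) :=
    (LinearMap.applyₗ v).comp ((aeval h).toLinearMap.comp (AdjoinRoot.modByMonicHom hgm))
  have hf : ∀ P, f (AdjoinRoot.mk g P) = aeval h P v := fun P => by
    show aeval h (AdjoinRoot.modByMonicHom hgm (AdjoinRoot.mk g P)) v = _
    rw [AdjoinRoot.modByMonicHom_mk hgm]
    conv_rhs => rw [← Polynomial.modByMonic_add_div P g]
    rw [mul_comm g, map_add, LinearMap.add_apply, map_mul, Module.End.mul_apply, hv, map_zero, add_zero]
  let β : K →ₗ[F] F := (B.flip v).comp f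
  have hβ : β ≠ 0 := fun e => hQv (by
    have h1 : β 1 = 0 := by rw [e]; rfl
    change B (f 1) v = 0 at h1
    rw [← map_one (AdjoinRoot.mk g), hf, map_one, Module.End.one_apply, polar_self' Q] at h1
    exact (mul_eq_zero.1 h1).resolve_left h2)
  have hff : ∀ k k', B (f k) (f k') = β (k * k') := fun k k' => by
    induction k using AdjoinRoot.induction_on with | ih P => ?_
    induction k' using AdjoinRoot.induction_on with | ih P' => ?_
    show _ = B (f (AdjoinRoot.mk g P * AdjoinRoot.mk g P')) v
    rw [← map_mul, hf, hf, hf, mul_comm P P', map_mul, Module.End.mul_apply,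
      aeval_selfadjoint Q h hhs P' (aeval h P v)]
  set d : K := θ * θ - algebraMap F K 4
  let f1 : K →ₗ[F] (ι → F) := w.comp f
  have hhf : ∀ k, h (f k) = f (θ * k) := fun k => by
    induction k using AdjoinRoot.induction_on with | ih P => ?_
    rw [show θ = AdjoinRoot.mk g X from AdjoinRoot.mk_X.symm, ← map_mul, hf, hf, map_mul, aeval_X,
      Module.End.mul_apply]
  have hhf1 : ∀ k, h (f1 k) = f1 (θ * k) := fun k => by
    show h (w (f k)) = w (f (θ * k))
    rw [← Module.End.mul_apply, hhw.eq, Module.End.mul_apply, hhf]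
  have hwf1 : ∀ k, w (f1 k) = f (d * k) := fun k => by
    show w (w (f k)) = _
    rw [← Module.End.mul_apply, hww, LinearMap.sub_apply, LinearMap.smul_apply, Module.End.one_apply,
      Module.End.mul_apply, hhf, hhf, sub_mul, mul_assoc, map_sub, ← Algebra.smul_def, map_smul]
  have h01 : ∀ k k', B (f k) (f1 k') = 0 := fun k k' => by
    induction k using AdjoinRoot.induction_on with | ih P => ?_
    induction k' using AdjoinRoot.induction_on with | ih P' => ?_
    show B (f (AdjoinRoot.mk g P)) (w (f (AdjoinRoot.mk g P'))) = 0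
    rw [hf, hf]
    have hc : ∀ R : F[X], Commute (aeval h R) w := fun R => by
      induction R using Polynomial.induction_on' with
      | add R S hR hS => rw [map_add]; exact hR.add_left hS
      | monomial n c => rw [aeval_monomial]; exact ((Algebra.commute_algebraMap_left c w).mul_left (hhw.pow_left n))
    set C' := aeval h (P * P') with hC'
    have e1 : B (aeval h P v) (w (aeval h P' v)) = B v (w (C' v)) := by
      rw [aeval_selfadjoint Q h hhs, ← Module.End.mul_apply, (hc P).eq, Module.End.mul_apply, hC', map_mul,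
        Module.End.mul_apply]
    have e2 : B v (w (C' v)) = -B v (w (C' v)) := by
      conv_lhs => rw [← neg_neg (B v (w (C' v))), ← hws, ← aeval_selfadjoint Q h hhs, ← Module.End.mul_apply,
        (hc _).eq, Module.End.mul_apply, hsymm]
    rw [e1]
    have : (2 : F) * B v (w (C' v)) = 0 := by linear_combination e2
    exact (mul_eq_zero.1 this).resolve_left h2
  have h11 : ∀ k k', B (f1 k) (f1 k') = -β (d * k * k') := fun k k' => by
    show B (w (f k)) (f1 k') = _
    rw [hws, hwf1, hff]
    congr 2; ring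
  have hd : d ≠ 0 := by
    intro hd0
    have h4 : (θ - algebraMap F K 2) * (θ + algebraMap F K 2) = 0 := by
      rw [← hd0]; simp only [d]
      rw [show (4 : F) = 2 * 2 by norm_num, map_mul]; ring
    rcases mul_eq_zero.1 h4 with e | e
    · exact hg2 (AdjoinRoot.mk_eq_zero.1 (by rw [map_sub, AdjoinRoot.mk_X, AdjoinRoot.mk_C]; exact e))
    · have hv2 : h v + (2 : F) • v = 0 := by
        have h1 : f θ + (2 : F) • f 1 = 0 := by
          rw [← map_smul, ← map_add, ← Algebra.algebraMap_eq_smul_one, e, map_zero]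
        rwa [← mul_one θ, ← hhf, ← map_one (AdjoinRoot.mk g), hf, map_one, Module.End.one_apply] at h1
      set u := a v + v
      have hu : a u = -u := by
        have h3 := congrArg a hv2
        rw [map_zero, map_add, map_smul, hh, LinearMap.add_apply, map_add, ← Module.End.mul_apply a ai, haai,
          Module.End.one_apply] at h3
        show a (a v + v) = -(a v + v)
        rw [map_add, ← sub_eq_zero, ← h3]; module
      have hodd : ∀ z, a z = -z → z = 0 := fun z hz => by
        have hp : ∀ k : ℕ, (a ^ k) z = (-1 : F) ^ k • z := fun k => by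
          induction k with
          | zero => simp
          | succ k ih => rw [pow_succ', Module.End.mul_apply, ih, map_smul, hz, pow_succ, smul_neg, mul_neg_one, neg_smul]
        have h5 := hp r
        rw [har, Module.End.one_apply, hr.neg_one_pow, neg_smul, one_smul] at h5
        have : (2 : F) • z = 0 := by rw [two_smul]; nth_rewrite 1 [h5]; exact neg_add_cancel z
        exact (smul_eq_zero.1 this).resolve_left h2
      have hu0 := hodd u hu
      have hv0 : v = 0 := hodd v (eq_neg_of_add_eq_zero_left hu0)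
      exact hQv (by rw [hv0, QuadraticMap.map_zero])
  -- the rotation
  haveI : Finite K := Module.finite_of_finite F
  obtain ⟨ν, hν⟩ := OrthSim.exists_nonsq h2
  obtain ⟨n0, hn0⟩ := FiniteField.norm_surjective F K (ν : F)
  have hn00 : n0 ≠ 0 := fun e => ν.ne_zero (by rw [← hn0, e, Algebra.norm_zero])
  obtain ⟨p, q, hpq⟩ := binary_universal (F := K) (show (2 : K) ≠ 0 by
    rw [← map_ofNat (algebraMap F K)]; exact (_root_.map_ne_zero _).2 h2) (a := (1 : K)) (b := -d) one_ne_zero
    (neg_ne_zero.2 hd) n0
  obtain ⟨ε, hε⟩ := spin_refl_class Q h2 hQ hn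
  obtain ⟨P, P1, hP, hP1⟩ := exists_coord Q hQ β hβ f f1 d hff h11 h01
  have hN1 : p * p - d * q * q = n0 := by rw [← hpq]; ring
  obtain ⟨R0, c0, hd0, hs0, hc0, hh0, hT0, hTR0, hRT0⟩ := exists_invol Q h2 hQ hn β hβ f f1 d hff h11 h01 w hws
    (fun _ => rfl) hwf1 h θ hhs hhf hhf1 hP hP1 hε 1 0 (by simp)
  obtain ⟨R1, c1, hd1, hs1, hc1, hh1, hT1, hTR1, hRT1⟩ := exists_invol Q h2 hQ hn β hβ f f1 d hff h11 h01 w hws
    (fun _ => rfl) hwf1 h θ hhs hhf hhf1 hP hP1 hε p q (hN1 ▸ hn00)
  set b := Module.finBasis F K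
  obtain ⟨r0, hr0, e0⟩ := hc0 b
  obtain ⟨r1, hr1, e1⟩ := hc1 b
  rw [show (1 : K) * 1 - d * 0 * 0 = 1 by ring, map_one, one_mul] at e0
  rw [hN1, hn0] at e1
  set Δ := (LinearMap.BilinForm.toMatrix b ((LinearMap.mul F K).compr₂ β)).det
  have hcls : sqc (c0 * c1) = -1 := by
    refine (Int.units_eq_one_or _).resolve_left fun hsq' => hν ?_
    obtain ⟨t, ht⟩ := sqc_eq_one.1 hsq'
    rw [Units.val_mul] at ht
    have h22 : (2 : F) ^ Module.finrank F K ≠ 0 := pow_ne_zero _ h2
    have hΔ : Δ ≠ 0 := fun e => by
      rw [e, mul_zero] at e0; exact (mul_ne_zero h22 c0.ne_zero) e0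
    refine ⟨2 ^ Module.finrank F K * t / (r0 * r1 * Δ), ?_⟩
    field_simp
    linear_combination ((2 : F) ^ Module.finrank F K) ^ 2 * ht - (2 : F) ^ Module.finrank F K * (c1 : F) * e0 -
      r0 * r0 * Δ * e1
  refine ⟨R1 * R0, ?_, ?_, ?_⟩
  · rw [map_mul, hd0, hd1, ← mul_pow, neg_mul_neg, one_mul, one_pow]
  · rw [map_mul, hs0, hs1, mul_mul_mul_comm, ← mul_pow, Int.units_mul_self, one_pow, one_mul, mul_comm, ← map_mul, hcls]
  · have key : ∀ u, mat Q (R1 * R0) *ᵥ w u = w (mat Q (R1 * R0) *ᵥ u) := by
      intro u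
      simp only [mat, mulVec_mul]
      show mat Q R1 *ᵥ (mat Q R0 *ᵥ w u) = w (mat Q R1 *ᵥ (mat Q R0 *ᵥ u))
      rw [eq_sub_of_add_eq (hT0 u), mulVec_sub, mulVec_smul, hRT1, eq_sub_of_add_eq (hT1 (mat Q R0 *ᵥ u)), hTR0,
        sub_sub_cancel]
    refine endo_injective Q (LinearMap.ext fun u => ?_)
    have hah : a = (2 : F)⁻¹ • (h + w) := by
      rw [hh, hw, show a + ai + (a - ai) = (2 : F) • a by rw [two_smul]; abel, smul_smul, inv_mul_cancel₀ h2, one_smul]
    have k1 : endo Q (R1 * R0) (w u) = w (endo Q (R1 * R0) u) := by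
      simp only [endo_apply]; exact key u
    have k2 : endo Q (R1 * R0) (h u) = h (endo Q (R1 * R0) u) := by
      simp only [endo_apply, mat, mulVec_mul]
      show mat Q R1 *ᵥ (mat Q R0 *ᵥ h u) = h (mat Q R1 *ᵥ (mat Q R0 *ᵥ u))
      rw [hh0, hh1]
    rw [endo_mul Q (R1 * R0) s, endo_mul Q s (R1 * R0), Module.End.mul_apply, Module.End.mul_apply]
    show endo Q (R1 * R0) (a u) = a (endo Q (R1 * R0) u)
    rw [hah]
    show endo Q (R1 * R0) ((2 : F)⁻¹ • (h u + w u)) = (2 : F)⁻¹ • (h _ + w _)
    rw [map_smul, map_add, k1, k2]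

end Cfsg.Lib.OrthFusion
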