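import Cfsg.Agent.Known.OrthSim.Common
import Cfsg.Agent.Classical.Misc.PrimeOrderLinear

/-!
A rotation of nontrivial spinor norm centralising a semisimple isometry of odd order.
-/

set_option autoImplicit false
set_option linter.unusedSectionVars false
set_option linter.style.haveILetI false

namespace Cfsg.Lib.OrthFusion

open Matrix Polynomial Cfsg.Lib.Classical.Refl

universe u

variable {F : Type u} [Field F] [Fintype F] [DecidableEq F] {ι : Type} [Fintype ι] [DecidableEq ι]
  (Q : QuadraticForm F (ι → F))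


theorem polar_self' (x : (ι → F)) : (QuadraticMap.polarBilin Q) x x = 2 * Q x := by
  rw [QuadraticMap.polarBilin_apply_apply, QuadraticMap.polar_self, two_nsmul, two_mul]

/-- The product of reflections in a family of pairwise orthogonal vectors. -/
theorem prod_refl_mulVec :
    ∀ (n : ℕ) (x : Fin n → (ι → F)) (hx : ∀ j, Q (x j) ≠ 0), (∀ i j, i ≠ j → (QuadraticMap.polarBilin Q) (x i) (x j) = 0) →
      ∀ u, mat Q (List.ofFn fun j => refl Q (x j) (hx j)).prod *ᵥ u =
        u - ∑ j, ((Q (x j))⁻¹ * (QuadraticMap.polarBilin Q) (x j) u) • x j := by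
  intro n
  induction n with
  | zero => intro x hx _ u; simp [mat]
  | succ n ih =>
    intro x hx horth u
    rw [List.ofFn_succ, List.prod_cons]
    show mat Q (refl Q (x 0) (hx 0) * _) *ᵥ u = _
    rw [mat, mulVec_mul]
    change mat Q (refl Q (x 0) (hx 0)) *ᵥ (mat Q _ *ᵥ u) = _
    rw [ih (fun j => x j.succ) (fun j => hx _) (fun i j h => horth _ _ fun e => h (Fin.succ_injective n e)) u]
    show Cfsg.reflectionMatrix (⇑Q) (x 0) *ᵥ _ = _
    rw [mulVec_eq, Fin.sum_univ_succ]
    have h0 : (QuadraticMap.polarBilin Q) (x 0) (∑ j : Fin n, ((Q (x j.succ))⁻¹ * (QuadraticMap.polarBilin Q) (x j.succ) u) • x j.succ) = 0 := by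
      rw [map_sum]
      exact Finset.sum_eq_zero fun j _ => by rw [map_smul, horth 0 j.succ (Fin.succ_ne_zero j).symm, smul_zero]
    rw [← QuadraticMap.polarBilin_apply_apply, map_sub, h0, sub_zero]
    abel

/-- The square class character. -/
noncomputable def sqc : Fˣ →* ℤˣ := (quadraticChar F).toUnitHom

theorem sqc_eq_one {a : Fˣ} : sqc a = 1 ↔ IsSquare (a : F) := by
  rw [← quadraticChar_one_iff_isSquare a.ne_zero, Units.ext_iff, sqc, MulChar.coe_toUnitHom, Units.val_one]

theorem sqc_sq (a : Fˣ) : sqc (a * a) = 1 := by rw [map_mul]; exact Int.units_mul_self _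

variable (h2 : (2 : F) ≠ 0) (hQ : (QuadraticMap.polarBilin Q).Nondegenerate) (hn : 2 ≤ Fintype.card ι)

include h2 hQ hn

/-- The spinor norm of a reflection. -/
theorem spin_refl_class : ∃ ε : ℤˣ, ∀ (x : (ι → F)) (hx : Q x ≠ 0), spin Q (refl Q x hx) = ε * sqc (Units.mk0 (Q x) hx) := by
  obtain ⟨a, b, ha, hb, hne⟩ := exists_spin_ne Q h2 hQ hn
  refine ⟨spin Q (refl Q a ha) * sqc (Units.mk0 (Q a) ha), fun x hx => ?_⟩
  rw [mul_assoc, ← map_mul]
  rcases Int.units_eq_one_or (sqc (Units.mk0 (Q a) ha * Units.mk0 (Q x) hx)) with e | e <;> rw [e]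
  · rw [mul_one]
    exact ((spin_eq_iff Q h2 hQ hn ha hx).2 (by simpa using sqc_eq_one.1 e)).symm
  · have : spin Q (refl Q a ha) ≠ spin Q (refl Q x hx) := fun h => by
      have h' := sqc_eq_one.2 (show IsSquare ((Units.mk0 (Q a) ha * Units.mk0 (Q x) hx : Fˣ) : F) by
        simpa using (spin_eq_iff Q h2 hQ hn ha hx).1 h)
      rw [e] at h'
      exact absurd h' (by decide)
    rcases Int.units_eq_one_or (spin Q (refl Q a ha)) with h | h <;>
      rcases Int.units_eq_one_or (spin Q (refl Q x hx)) with h' | h' <;> simp_all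

section Model

variable {K : Type u} [Field K] [Algebra F K] [FiniteDimensional F K]
  (β : K →ₗ[F] F) (hβ : β ≠ 0) (f f1 : K →ₗ[F] (ι → F)) (d : K)
  (hff : ∀ k k', (QuadraticMap.polarBilin Q) (f k) (f k') = β (k * k')) (h11 : ∀ k k', (QuadraticMap.polarBilin Q) (f1 k) (f1 k') = -β (d * k * k'))
  (h01 : ∀ k k', (QuadraticMap.polarBilin Q) (f k) (f1 k') = 0)

include hβ hff h11 h01

omit h2 hn in
/-- The coordinates of a vector in the plane over the larger field. -/
theorem exists_coord : ∃ (P P1 : (ι → F) →ₗ[F] K), (∀ u k, β (P u * k) = (QuadraticMap.polarBilin Q) u (f k)) ∧ ∀ u k, β (P1 u * k) = (QuadraticMap.polarBilin Q) u (f1 k) := by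
  have hnd := nondeg_of_functional β hβ
  have mk : ∀ g : K →ₗ[F] (ι → F), ∃ P : (ι → F) →ₗ[F] K, ∀ u k, β (P u * k) = (QuadraticMap.polarBilin Q) u (g k) := fun g =>
    ⟨(LinearMap.BilinForm.toDual ((LinearMap.mul F K).compr₂ β) hnd).symm.toLinearMap.comp
      ((LinearMap.lcomp F F g).comp (QuadraticMap.polarBilin Q)), fun u k => by
      have := LinearMap.BilinForm.apply_toDual_symm_apply (hB := hnd) ((LinearMap.lcomp F F g) ((QuadraticMap.polarBilin Q) u)) k
      exact this⟩
  obtain ⟨P, hP⟩ := mk f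
  obtain ⟨P1, hP1⟩ := mk f1
  exact ⟨P, P1, hP, hP1⟩
where
  nondeg_of_functional {F' : Type u} [Field F'] {L : Type u} [Field L] [Algebra F' L] (b : L →ₗ[F'] F') (hb : b ≠ 0) :
      LinearMap.BilinForm.Nondegenerate ((LinearMap.mul F' L).compr₂ b) := by
    obtain ⟨z, hz⟩ := DFunLike.ne_iff.1 hb
    refine ⟨fun x hx => by_contra fun h => hz ?_, fun x hx => by_contra fun h => hz ?_⟩
    · simpa [h] using hx (x⁻¹ * z)
    · simpa [h, mul_comm, mul_left_comm] using hx (x⁻¹ * z)

variable (w : Module.End F (ι → F)) (hw : ∀ u v, (QuadraticMap.polarBilin Q) (w u) v = -(QuadraticMap.polarBilin Q) u (w v)) (hwf : ∀ k, w (f k) = f1 k)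
  (hwf1 : ∀ k, w (f1 k) = f (d * k))
  (hh : Module.End F (ι → F)) (θ : K) (hhs : ∀ u v, (QuadraticMap.polarBilin Q) (hh u) v = (QuadraticMap.polarBilin Q) u (hh v)) (hhf : ∀ k, hh (f k) = f (θ * k))
  (hhf1 : ∀ k, hh (f1 k) = f1 (θ * k))

include hw hwf hwf1 hhs hhf hhf1

/-- The involution of the plane attached to a line. -/
theorem exists_invol {P P1 : (ι → F) →ₗ[F] K} (hP : ∀ u k, β (P u * k) = (QuadraticMap.polarBilin Q) u (f k))
    (hP1 : ∀ u k, β (P1 u * k) = (QuadraticMap.polarBilin Q) u (f1 k)) {ε : ℤˣ}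
    (hε : ∀ (x : (ι → F)) (hx : Q x ≠ 0), spin Q (refl Q x hx) = ε * sqc (Units.mk0 (Q x) hx)) (p q : K)
    (hN : p * p - d * q * q ≠ 0) :
    ∃ (g : Cfsg.isometryGroup F (⇑Q)) (c : Fˣ), detHom Q g = (-1) ^ Module.finrank F K ∧
      spin Q g = ε ^ Module.finrank F K * sqc c ∧
      (∀ b : Module.Basis (Fin (Module.finrank F K)) F K, ∃ r : F, r ≠ 0 ∧
        (2 : F) ^ Module.finrank F K * (c : F) = r * r * ((Algebra.norm F (p * p - d * q * q)) *
          (LinearMap.BilinForm.toMatrix b ((LinearMap.mul F K).compr₂ β)).det)) ∧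
      (∀ u, mat Q g *ᵥ hh u = hh (mat Q g *ᵥ u)) ∧
      (∀ u, mat Q g *ᵥ w u + w (mat Q g *ᵥ u) =
        (2 : F) • (w u + f (P1 u) - f1 (P u))) ∧
      (∀ u, w (mat Q g *ᵥ u) + f (P1 (mat Q g *ᵥ u)) - f1 (P (mat Q g *ᵥ u)) = w u + f (P1 u) - f1 (P u)) ∧
      (∀ u, mat Q g *ᵥ (w u + f (P1 u) - f1 (P u)) = w u + f (P1 u) - f1 (P u)) := by
  classical
  have inj : ∀ x y : K, (∀ k, β (x * k) = β (y * k)) → x = y := fun x y h => by
    obtain ⟨z, hz⟩ := DFunLike.ne_iff.1 hβ
    by_contra hne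
    refine hz ?_
    have := h ((x - y)⁻¹ * z)
    rw [← sub_eq_zero, ← map_sub, ← sub_mul, mul_inv_cancel_left₀ (sub_ne_zero.2 hne)] at this
    exact this
  have hsymm : ∀ u v, (QuadraticMap.polarBilin Q) u v = (QuadraticMap.polarBilin Q) v u := fun u v => QuadraticMap.polar_comm (⇑Q) u v
  have hPf : ∀ k, P (f k) = k := fun k => inj _ _ fun k' => by rw [hP, hff]
  have hPf1 : ∀ k, P (f1 k) = 0 := fun k => inj _ _ fun k' => by rw [hP, hsymm, h01, zero_mul, map_zero]
  have hP1f : ∀ k, P1 (f k) = 0 := fun k => inj _ _ fun k' => by rw [hP1, h01, zero_mul, map_zero]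
  have hP1f1 : ∀ k, P1 (f1 k) = -(d * k) := fun k => inj _ _ fun k' => by rw [hP1, h11, neg_mul, map_neg]
  have hPw : ∀ u, P (w u) = -P1 u := fun u => inj _ _ fun k => by
    rw [hP, hw, hwf, neg_mul, map_neg, hP1]
  have hP1w : ∀ u, P1 (w u) = -(d * P u) := fun u => inj _ _ fun k => by
    rw [hP1, hw, hwf1, ← hP, ← map_neg]; congr 1; ring
  have hPh : ∀ u, P (hh u) = θ * P u := fun u => inj _ _ fun k => by
    rw [hP, hhs, hhf, ← hP]; congr 1; ring
  have hP1h : ∀ u, P1 (hh u) = θ * P1 u := fun u => inj _ _ fun k => by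
    rw [hP1, hhs, hhf1, ← hP1]; congr 1; ring
  set N := p * p - d * q * q with hNdef
  let U : K →ₗ[F] (ι → F) := f.comp (LinearMap.mulLeft F p) + f1.comp (LinearMap.mulLeft F q)
  have hU : ∀ k, U k = f (p * k) + f1 (q * k) := fun k => rfl
  let G : LinearMap.BilinForm F K := (LinearMap.mul F K).compr₂ (β.comp (LinearMap.mulLeft F N))
  have hG : ∀ k k', G k k' = β (N * (k * k')) := fun k k' => rfl
  have hUU : ∀ k k', (QuadraticMap.polarBilin Q) (U k) (U k') = G k k' := fun k k' => by
    rw [hU, hU, map_add, map_add, LinearMap.add_apply, LinearMap.add_apply, hff, h01, h11,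
      hsymm (f1 _) (f _), h01, hG, hNdef, ← map_neg]
    simp only [zero_add, add_zero, ← map_add]
    congr 1
    ring
  have hGnd : ∀ x, (∀ k, G x k = 0) → x = 0 := fun x hx => by
    have : N * x = 0 := inj _ _ fun k => by rw [zero_mul, map_zero, mul_assoc, ← hG, hx]
    exact (mul_eq_zero.1 this).resolve_left hN
  haveI : Invertible (2 : F) := invertibleOfNonzero h2
  obtain ⟨e, he⟩ := LinearMap.BilinForm.exists_orthogonal_basis (B := G)
    ⟨fun x y => by simp [hG, mul_comm x y]⟩
  have horth : ∀ i j, i ≠ j → G (e i) (e j) = 0 := fun i j h => he h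
  have hne : ∀ j, Q (U (e j)) ≠ 0 := fun j h0 => by
    refine e.ne_zero j (hGnd _ fun k => ?_)
    rw [← e.sum_repr k, map_sum]
    refine Finset.sum_eq_zero fun i _ => ?_
    rw [map_smul]
    rcases eq_or_ne j i with rfl | h
    · rw [← hUU, polar_self', h0, mul_zero, smul_zero]
    · rw [horth _ _ h, smul_zero]
  set g := (List.ofFn fun j => refl Q (U (e j)) (hne j)).prod
  have hg : ∀ u, mat Q g *ᵥ u =
      u - (2 : F) • U ((p * P u + q * P1 u) / N) := fun u => by
    rw [prod_refl_mulVec Q _ _ hne (fun i j h => by rw [hUU]; exact horth i j h) u]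
    congr 1
    set π := (p * P u + q * P1 u) / N
    have hπ : ∀ j, G π (e j) = (QuadraticMap.polarBilin Q) (U (e j)) u := fun j => by
      rw [hG, ← mul_assoc, mul_div_cancel₀ _ hN, hsymm, hU, map_add, ← hP, ← hP1, ← map_add]
      congr 1; ring
    conv_rhs => rw [← e.sum_repr π, map_sum, Finset.smul_sum]
    refine Finset.sum_congr rfl fun j _ => ?_
    rw [map_smul, smul_smul]
    congr 1
    have h1 : G π (e j) = e.repr π j * (2 * Q (U (e j))) := by
      conv_lhs => rw [← e.sum_repr π]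
      rw [map_sum, LinearMap.sum_apply, Finset.sum_eq_single j]
      · rw [map_smul, LinearMap.smul_apply, smul_eq_mul, ← hUU, polar_self']
      · intro i _ hi
        rw [map_smul, LinearMap.smul_apply, horth _ _ hi, smul_zero]
      · simp
    rw [← hπ, h1]
    have := hne j
    field_simp
  refine ⟨g, ∏ j, Units.mk0 (Q (U (e j))) (hne j), ?_, ?_, fun b => ?_, fun u => ?_, fun u => ?_, fun u => ?_,
    fun u => ?_⟩
  · rw [map_list_prod, List.map_ofFn, List.prod_ofFn]
    simp [detHom_refl]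
  · rw [map_list_prod, List.map_ofFn, List.prod_ofFn]
    simp only [Function.comp_apply, hε, Finset.prod_mul_distrib, map_prod]
    simp
  · have hdiag : LinearMap.BilinForm.toMatrix e G = diagonal fun j => 2 * Q (U (e j)) := by
      ext i j
      rw [LinearMap.BilinForm.toMatrix_apply]
      rcases eq_or_ne i j with rfl | h
      · rw [diagonal_apply_eq, ← hUU, polar_self']
      · rw [diagonal_apply_ne _ h, horth _ _ h]
    have hcong := LinearMap.BilinForm.toMatrix_mul_basis_toMatrix b e G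
    have hGb : G = LinearMap.BilinForm.compRight ((LinearMap.mul F K).compr₂ β) (LinearMap.mulLeft F N) :=
      LinearMap.ext fun x => LinearMap.ext fun y => by
        show β (N * (x * y)) = β (x * (N * y))
        rw [mul_left_comm]
    refine ⟨(b.toMatrix e).det, ?_, ?_⟩
    · intro h0
      have h1 := congrArg Matrix.det (b.toMatrix_mul_toMatrix_flip e)
      rw [det_mul, h0, zero_mul, det_one] at h1
      exact zero_ne_one h1
    · have h1 := congrArg Matrix.det hcong
      rw [hdiag, det_mul, det_mul, det_transpose, det_diagonal, Finset.prod_mul_distrib, Finset.prod_const,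
        Finset.card_univ, Fintype.card_fin, hGb, LinearMap.BilinForm.toMatrix_compRight, det_mul,
        LinearMap.det_toMatrix] at h1
      rw [Units.coe_prod]
      simp only [Units.val_mk0]
      rw [← h1, Algebra.norm_apply]
      simp only [Algebra.lmul]
      ring_nf
      rfl
  · rw [hg, hg, hPh, hP1h, map_sub, map_smul, hU, hU, map_add, hhf, hhf1]
    congr 2
    congr 1 <;> congr 1 <;> ring
  · rw [hg, hg, hPw, hP1w, map_sub, map_smul, hU, hU, map_add, hwf, hwf1]
    have key : ∀ k k' : K, k = k' → f k = f k' ∧ f1 k = f1 k' := fun k k' h => by rw [h]; exact ⟨rfl, rfl⟩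
    have e1 : f (p * ((p * -P1 u + q * -(d * P u)) / N)) + f (d * (q * ((p * P u + q * P1 u) / N))) = f (-P1 u) := by
      rw [← map_add]; congr 1; field_simp; rw [hNdef]; ring
    have e2 : f1 (q * ((p * -P1 u + q * -(d * P u)) / N)) + f1 (p * ((p * P u + q * P1 u) / N)) = f1 (P u) := by
      rw [← map_add]; congr 1; field_simp; rw [hNdef]; ring
    rw [map_neg] at e1
    linear_combination (norm := module) -(2 : F) • e1 - (2 : F) • e2
  · rw [hg]
    simp only [map_sub, map_smul, hU, map_add, hwf, hwf1, hP1f, hP1f1, hPf, hPf1, map_neg, map_zero, zero_add,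
      add_zero, smul_neg, smul_zero]
    module
  · rw [hg]
    have z1 : P (w u + f (P1 u) - f1 (P u)) = 0 := by
      rw [map_sub, map_add, hPw, hPf, hPf1, sub_zero, neg_add_cancel]
    have z2 : P1 (w u + f (P1 u) - f1 (P u)) = 0 := by
      rw [map_sub, map_add, hP1w, hP1f, hP1f1, add_zero, sub_neg_eq_add, neg_add_cancel]
    rw [z1, z2, mul_zero, mul_zero, add_zero, zero_div, map_zero, smul_zero, sub_zero]

end Model

end Cfsg.Lib.OrthFusion
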